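import Cfsg.Agent.Lib.Helper79.Glaub.CosetConj

set_option autoImplicit false
set_option linter.unusedSectionVars false
set_option linter.style.haveILetI false

namespace Cfsg.Agent.Helper79.GlaubFpf

open Cfsg.Agent.Helper79.Glaub

universe u

section ConjGen

variable {Γ : Type u} [Group Γ] [Finite Γ] (G : Subgroup Γ) [hG : G.Normal] (x : Γ)

/-- the order of `G ⟨x⟩` when the orders of `G` and `x` are coprime -/
theorem card_sup_zpowers (hcop : (Nat.card G).Coprime (orderOf x)) :
    Nat.card ↥(G ⊔ Subgroup.zpowers x) = Nat.card G * orderOf x := by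
  have h1 : G.relIndex (G ⊔ Subgroup.zpowers x) = G.relIndex (Subgroup.zpowers x) :=
    Subgroup.relIndex_sup_left (K := G) (H := Subgroup.zpowers x)
  have h2 : G.relIndex (Subgroup.zpowers x) =
      (G ⊓ Subgroup.zpowers x).relIndex (Subgroup.zpowers x) :=
    (Subgroup.inf_relIndex_right (H := G) (K := Subgroup.zpowers x)).symm
  have h3 : G ⊓ Subgroup.zpowers x = ⊥ := by
    rw [eq_bot_iff]
    intro u hu
    rw [Subgroup.mem_inf] at hu
    rw [Subgroup.mem_bot]
    exact eq_one_of_mem_zpowers G x hcop hu.2 hu.1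
  rw [h3, Subgroup.relIndex_bot_left, Nat.card_zpowers] at h2
  have h4 := Subgroup.card_mul_index (G.subgroupOf (G ⊔ Subgroup.zpowers x))
  have h5 : (G.subgroupOf (G ⊔ Subgroup.zpowers x)).index =
      G.relIndex (G ⊔ Subgroup.zpowers x) := rfl
  have h6 : Nat.card (G.subgroupOf (G ⊔ Subgroup.zpowers x)) = Nat.card G :=
    Nat.card_congr (Subgroup.subgroupOfEquivOfLe
      (le_sup_left : G ≤ G ⊔ Subgroup.zpowers x)).toEquiv
  rw [h5, h1, h2, h6] at h4
  exact h4.symm

include hG in
/-- every element of the coset `G x` is `G`-conjugate to an element of `C_G(x) x`, in an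
arbitrary ambient group -/
theorem exists_conj_mem_fixC_mul_gen (hcop : (Nat.card G).Coprime (orderOf x)) (g : Γ)
    (hg : g ∈ G) : ∃ γ ∈ G, ∃ c ∈ fixC G x, γ * (c * x) * γ⁻¹ = g * x := by
  classical
  set H : Subgroup Γ := G ⊔ Subgroup.zpowers x with hH
  have hGH : G ≤ H := le_sup_left
  have hxH : x ∈ H := (le_sup_right : Subgroup.zpowers x ≤ H) (Subgroup.mem_zpowers x)
  let G' : Subgroup H := G.subgroupOf H
  haveI : G'.Normal := Subgroup.normal_subgroupOf
  let x' : H := ⟨x, hxH⟩
  have hord : orderOf x' = orderOf x := Subgroup.orderOf_mk x hxH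
  have hcardG' : Nat.card G' = Nat.card G :=
    Nat.card_congr (Subgroup.subgroupOfEquivOfLe hGH).toEquiv
  have hcop' : (Nat.card G').Coprime (orderOf x') := by rw [hcardG', hord]; exact hcop
  have hcard' : Nat.card H = Nat.card G' * orderOf x' := by
    rw [hcardG', hord]
    exact card_sup_zpowers G x hcop
  have hg' : (⟨g, hGH hg⟩ : H) ∈ G' := by
    rw [Subgroup.mem_subgroupOf]
    exact hg
  obtain ⟨γ', hγ', c', hc', heq⟩ :=
    exists_conj_mem_fixC_mul G' x' hcop' hcard' (⟨g, hGH hg⟩ : H) hg'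
  refine ⟨(γ' : Γ), Subgroup.mem_subgroupOf.mp hγ', (c' : Γ), ?_, ?_⟩
  · rw [mem_fixC] at hc' ⊢
    refine ⟨Subgroup.mem_subgroupOf.mp hc'.1, ?_⟩
    have := congrArg Subtype.val hc'.2
    simpa [x'] using this
  · have := congrArg Subtype.val heq
    simpa [x'] using this

end ConjGen

end Cfsg.Agent.Helper79.GlaubFpf
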