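import Cfsg.Agent.Lib.Helper79.GlaubFpf.Step

set_option autoImplicit false
set_option linter.unusedSectionVars false
set_option linter.style.haveILetI false

namespace Cfsg.Agent.Helper79.GlaubFpf

open Cfsg Cfsg.Agent.Helper81 Cfsg.Agent.Helper79.Glaub
open scoped ComplexConjugate

universe u v

section AllPow

variable {Γ : Type u} [Group Γ] [Fintype Γ] {A : Type v} [CommGroup A] [Finite A] (π : Γ →* A)
  (G : Subgroup Γ) [Fintype G] (hπ : Function.Surjective π) (hker : ∀ x : Γ, π x = 1 ↔ x ∈ G)
  (s₀ : Γ) [Fintype (fixC G s₀)] (hs₀ : orderOf s₀ = Nat.card A)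
  (hcop : (Nat.card G).Coprime (Nat.card A))

include hπ hker hs₀ hcop

/-- If all nonidentity powers of `s₀` have the same fixed points in `G`, the canonical
extension is, up to signs, the same irreducible character of `C` on all the cosets `C s₀ ^ k`
with `s₀ ^ k ≠ 1`. -/
theorem all_pow (hfpf : ∀ k : ℕ, s₀ ^ k ≠ 1 → fixC G (s₀ ^ k) = fixC G s₀)
    {χh : Γ → ℂ} (hχh : IsIrrCharacter Γ χh)
    (hres : IsIrrCharacter G (fun g : G => χh g))
    (hdet : (detOrder χh).Coprime (Nat.card A)) (β : IrrCharacter (fixC G s₀)) (ε₀ : ℤ)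
    (hε₀ : ε₀ = 1 ∨ ε₀ = -1)
    (hβ1 : ∀ c : fixC G s₀, χh (c * s₀) = (ε₀ : ℂ) * (β : fixC G s₀ → ℂ) c) :
    ∀ k : ℕ, s₀ ^ k ≠ 1 → ∃ ε : ℤ, (ε = 1 ∨ ε = -1) ∧
      ∀ c : fixC G s₀, χh (c * s₀ ^ k) = (ε : ℂ) * (β : fixC G s₀ → ℂ) c := by
  classical
  set n := Nat.card A with hn
  have hnpos : 0 < n := Nat.card_pos
  have hC0 : (Nat.card (fixC G s₀) : ℂ) ≠ 0 := by
    exact_mod_cast (Nat.card_pos (α := fixC G s₀)).ne'
  have key : ∀ g : ℕ, ∀ k : ℕ, Nat.gcd k n = g → s₀ ^ k ≠ 1 → ∃ ε : ℤ, (ε = 1 ∨ ε = -1) ∧
      ∀ c : fixC G s₀, χh (c * s₀ ^ k) = (ε : ℂ) * (β : fixC G s₀ → ℂ) c := by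
    intro g
    induction g using Nat.strong_induction_on with
    | _ g ih =>
      intro k hk hne
      by_cases hg1 : g = 1
      · have hkcop : k.Coprime n := by rw [Nat.Coprime, hk, hg1]
        refine ⟨ε₀, hε₀, fun c => ?_⟩
        rw [twist_coset π G hπ hker s₀ hs₀ hcop hχh hres hdet k hkcop c c.2, hβ1]
      · obtain ⟨p, hp, hpg⟩ := Nat.exists_prime_and_dvd hg1
        have hgk : g ∣ k := hk ▸ Nat.gcd_dvd_left k n
        have hgn : g ∣ n := hk ▸ Nat.gcd_dvd_right k n
        have hpk : p ∣ k := hpg.trans hgk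
        have hpn : p ∣ n := hpg.trans hgn
        have hgpos : 0 < g := Nat.pos_of_dvd_of_pos hgn hnpos
        set a := n.factorization p with ha
        set n' := n / p ^ a with hn'
        have hnfac : p ^ a * n' = n := Nat.ordProj_mul_ordCompl_eq_self n p
        have hcop' : (p ^ a).Coprime n' :=
          Nat.Coprime.pow_left a (Nat.coprime_ordCompl hp hnpos.ne')
        have hapos : 0 < a := hp.factorization_pos_of_dvd hnpos.ne' hpn
        have hppa : p ∣ p ^ a := dvd_pow_self p hapos.ne'
        obtain ⟨k'', hk''1, hk''2⟩ := Nat.chineseRemainder hcop' 1 k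
        set k' := k'' + k * n with hk'
        have hle : k ≤ k' := by
          have : k ≤ k * n := Nat.le_mul_of_pos_right k hnpos
          omega
        -- `p ∤ k'`
        have hpk' : ¬ p ∣ k' := by
          intro h
          have h1 : k' ≡ 1 [MOD p] := by
            have h2 : k'' ≡ 1 [MOD p] := hk''1.of_dvd hppa
            have h3 : k * n ≡ 0 [MOD p] :=
              Nat.modEq_zero_iff_dvd.mpr (Dvd.dvd.mul_left hpn k)
            have := h2.add h3
            simpa [hk'] using this
          have h2 : k' ≡ 0 [MOD p] := Nat.modEq_zero_iff_dvd.mpr h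
          have h3 : 1 ≡ 0 [MOD p] := h1.symm.trans h2
          have h4 : p ∣ 1 := Nat.modEq_zero_iff_dvd.mp h3
          exact hp.one_lt.ne' (Nat.dvd_one.mp h4)
        -- `n' ∣ k' - k`
        have hn'n : n' ∣ n := Dvd.intro_left _ hnfac
        have hmod : k ≡ k' [MOD n'] := by
          have h3 : k * n ≡ 0 [MOD n'] :=
            Nat.modEq_zero_iff_dvd.mpr (Dvd.dvd.mul_left hn'n k)
          have := hk''2.add h3
          simpa [hk'] using this.symm
        have hdvd : n' ∣ k' - k := (Nat.modEq_iff_dvd' hle).mp hmod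
        set d := k' - k with hd
        have hk'd : k' = k + d := by omega
        have hnd : n ∣ d * p ^ a := by
          rw [← hnfac, mul_comm d]
          exact Nat.mul_dvd_mul_left _ hdvd
        -- the gcd drops
        set e := Nat.gcd k' n with he
        have hek' : e ∣ k' := Nat.gcd_dvd_left k' n
        have hen : e ∣ n := Nat.gcd_dvd_right k' n
        have hpe : ¬ p ∣ e := fun h => hpk' (h.trans hek')
        have hen' : e ∣ n' := by
          have h1 : e.Coprime (p ^ a) :=
            Nat.Coprime.pow_right a ((Nat.Prime.coprime_iff_not_dvd hp).mpr hpe).symm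
          rw [← hnfac] at hen
          exact h1.dvd_of_dvd_mul_left hen
        have hek : e ∣ k := by
          have h1 : e ∣ d := hen'.trans hdvd
          have h2 : k = k' - d := by omega
          rw [h2]
          exact Nat.dvd_sub hek' h1
        have heg : e ∣ g := by
          rw [← hk]
          exact Nat.dvd_gcd hek hen
        have hlt : e < g := by
          apply lt_of_le_of_ne (Nat.le_of_dvd hgpos heg)
          intro h
          exact hpe (h ▸ hpg)
        have hne' : s₀ ^ k' ≠ 1 := by
          intro h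
          have h1 : n ∣ k' := by
            have h2 : orderOf s₀ ∣ k' := orderOf_dvd_of_pow_eq_one h
            rwa [hs₀] at h2
          exact hpk' (hpn.trans h1)
        obtain ⟨ε', hε', hval'⟩ := ih e hlt k' rfl hne'
        -- multiplicities
        have hββ : classInner (β : fixC G s₀ → ℂ) (β : fixC G s₀ → ℂ) = 1 := by
          rw [Cfsg.Agent.Helper81.irr_orthonormal β.2 β.2, if_pos rfl]
        have hw' : classInner (fun c : fixC G s₀ => χh (c * s₀ ^ (k + d)))
            (β : fixC G s₀ → ℂ) = (ε' : ℂ) := by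
          rw [← hk'd]
          have : (fun c : fixC G s₀ => χh (c * s₀ ^ k')) =
              (ε' : ℂ) • (β : fixC G s₀ → ℂ) := by
            funext c
            rw [hval' c]
            rfl
          rw [this, classInner_smul_left, hββ, mul_one]
        obtain ⟨w, hw⟩ := inner_int_pow π G hπ hker s₀ hs₀ hcop hχh hres hdet k β.2
        have hcongr := congr_step π G hker s₀ hs₀ hcop (IsIrrCharacter.isCharacter hχh)
          p a k d hp hnd β.2 w ε' hw hw'
        have hw0 : w ≠ 0 := by
          intro h0
          rw [h0] at hcongr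
          have h1 : (p : ℤ) ∣ ε' := Int.modEq_zero_iff_dvd.mp hcongr
          have h2 : (p : ℤ) ∣ 1 := by
            rcases hε' with h | h
            · rwa [h] at h1
            · rw [h] at h1
              exact (dvd_neg.mp h1)
          have h3 : p ∣ 1 := by exact_mod_cast h2
          exact hp.one_lt.ne' (Nat.dvd_one.mp h3)
        -- the norm
        have hcopk : (Nat.card G).Coprime (orderOf (s₀ ^ k)) := by
          apply Nat.Coprime.coprime_dvd_right (orderOf_pow_dvd k)
          rw [hs₀]
          exact hcop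
        have hnorm : classInner (fun c : fixC G s₀ => χh (c * s₀ ^ k))
            (fun c : fixC G s₀ => χh (c * s₀ ^ k)) = 1 := by
          unfold classInner
          rw [row_self_gen π G hπ hker (s₀ ^ k) (fixC G s₀) (hfpf k hne) hcopk hχh hres]
          field_simp
        exact eq_sign_mul_of_norm_one
          (isClassFunction_shift_pow G s₀ (IsIrrCharacter.isCharacter hχh) k)
          (fun β' => inner_int_pow π G hπ hker s₀ hs₀ hcop hχh hres hdet k β'.2)
          hnorm β (by rw [hw]; exact_mod_cast hw0)
  intro k hne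
  exact key _ k rfl hne

end AllPow

end Cfsg.Agent.Helper79.GlaubFpf
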