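import Cfsg.Agent.Lib.Helper79.Glaub.PCongr

set_option autoImplicit false
set_option linter.unusedSectionVars false
set_option linter.style.haveILetI false

namespace Cfsg.Agent.Helper79.GlaubFpf

open Cfsg.Agent.Helper79.Glaub

/-- Two rational integers that are nonnegative integer combinations of algebraic integers
`y i`, respectively `y i * z i` with `z i` roots of unity of `p`-power order, are congruent
modulo `p`. -/
theorem int_congr_sum_mul_roots {ι : Type*} [Fintype ι] (p j : ℕ) (hp : p.Prime) (y z : ι → ℂ)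
    (m : ι → ℕ) (hy : ∀ i, IsIntegral ℤ (y i)) (hz : ∀ i, z i ^ (p ^ j) = 1) (w w' : ℤ)
    (hw : ∑ i, (m i : ℂ) * y i = (w : ℂ)) (hw' : ∑ i, (m i : ℂ) * (y i * z i) = (w' : ℂ)) :
    w' ≡ w [ZMOD p] := by
  classical
  haveI : Fact p.Prime := ⟨hp⟩
  have hpj : 0 < p ^ j := pow_pos hp.pos j
  set R := integralClosure ℤ ℂ with hR
  have hp2 : ((p : ℕ) : R) ∈ nonunits R := by
    intro hu
    obtain ⟨y', hy'⟩ := hu.exists_right_inv
    have h1 : (p : ℂ) * (y' : ℂ) = ((1 : ℤ) : ℂ) := by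
      have := congrArg (fun r : R => (r : ℂ)) hy'
      simpa using this
    have h2 := int_dvd_of_isIntegral_of_mul_eq (y' : ℂ) p 1 hp.ne_zero h1 y'.2
    have h3 : (p : ℤ) = 1 ∨ (p : ℤ) = -1 := Int.isUnit_iff.mp (isUnit_of_dvd_one h2)
    rcases h3 with h3 | h3
    · have : p = 1 := by exact_mod_cast h3
      exact hp.one_lt.ne' this
    · have : (0 : ℤ) ≤ (p : ℤ) := Int.natCast_nonneg p
      omega
  haveI : CharP (R ⧸ (Ideal.span ({(p : R)} : Set R) : Ideal R)) p := CharP.quotient R p hp2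
  haveI : ExpChar (R ⧸ (Ideal.span ({(p : R)} : Set R) : Ideal R)) p := ExpChar.prime hp
  set I : Ideal R := Ideal.span ({(p : R)} : Set R) with hI
  let q : R →+* R ⧸ I := Ideal.Quotient.mk I
  let φ : R ⧸ I →+* R ⧸ I := iterateFrobenius (R ⧸ I) p j
  have hz' : ∀ i, IsIntegral ℤ (z i) := by
    intro i
    apply IsIntegral.of_pow hpj
    rw [hz i]
    exact isIntegral_one
  let z' : ι → R := fun i => ⟨z i, hz' i⟩
  let y' : ι → R := fun i => ⟨y i, hy i⟩
  have hz'pow : ∀ i, z' i ^ (p ^ j) = 1 := by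
    intro i
    apply Subtype.ext
    simp only [z']
    simp
    exact hz i
  have ha : ∑ i, (m i : R) * y' i = (w : R) := by
    apply Subtype.ext
    have h1 : ((∑ i, (m i : R) * y' i : R) : ℂ) = ∑ i, (m i : ℂ) * y i := by
      simp [y']
    rw [h1, hw]
    simp
  have ha' : ∑ i, (m i : R) * (y' i * z' i) = (w' : R) := by
    apply Subtype.ext
    have h1 : ((∑ i, (m i : R) * (y' i * z' i) : R) : ℂ) = ∑ i, (m i : ℂ) * (y i * z i) := by
      simp [y', z']
    rw [h1, hw']
    simp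
  have h1 := congrArg (fun r => φ (q r)) ha
  have h1' := congrArg (fun r => φ (q r)) ha'
  simp only [map_sum, map_mul, map_natCast, map_intCast] at h1 h1'
  have h2 : ∀ i, φ (q (z' i)) = 1 := by
    intro i
    show iterateFrobenius (R ⧸ I) p j (q (z' i)) = 1
    rw [iterateFrobenius_def, ← map_pow, hz'pow i, map_one]
  simp only [h2, mul_one] at h1'
  -- now `h1 : ∑ i, m i * φ (q (y' i)) = w` and `h1'` the same with `w'`
  have h3 : q (((w' - w : ℤ) : R)) = 0 := by
    rw [map_intCast]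
    push_cast
    rw [← h1, ← h1', sub_self]
  rw [Ideal.Quotient.eq_zero_iff_mem, hI, Ideal.mem_span_singleton] at h3
  obtain ⟨v, hv⟩ := h3
  have h4 : (p : ℂ) * (v : ℂ) = ((w' - w : ℤ) : ℂ) := by
    have := congrArg (fun r : R => (r : ℂ)) hv
    simp only [MulMemClass.coe_mul] at this
    have h5 : ((((p : ℕ) : R) : R) : ℂ) = (p : ℂ) := by simp
    have h6 : ((((w' - w : ℤ) : R)) : ℂ) = ((w' - w : ℤ) : ℂ) := by simp
    rw [h5, h6] at this
    exact this.symm
  have h5 := int_dvd_of_isIntegral_of_mul_eq (v : ℂ) p _ hp.ne_zero h4 v.2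
  exact (Int.modEq_iff_dvd.mpr (by
    have : (w - w' : ℤ) = -(w' - w) := by ring
    rw [this]
    exact (dvd_neg.mpr h5)))

end Cfsg.Agent.Helper79.GlaubFpf
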