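import Cfsg.Agent.Lib.Helper79.GlaubFpf.ConjGen
import Cfsg.Agent.Lib.Helper79.Glaub.Rows

set_option autoImplicit false
set_option linter.unusedSectionVars false
set_option linter.style.haveILetI false

namespace Cfsg.Agent.Helper79.GlaubFpf

open Cfsg Cfsg.Agent.Helper81 Cfsg.Agent.Helper79.Glaub
open scoped ComplexConjugate

universe u v

section CosetSumGen

variable {Γ : Type u} [Group Γ] [Fintype Γ] (G : Subgroup Γ) [hG : G.Normal] (s₀ : Γ)
  [Fintype G] [Fintype (fixC G s₀)]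
  (hcop : (Nat.card G).Coprime (orderOf s₀))

include hcop in
/-- a class function summed over the coset `G s₀` is determined by its values on `C s₀`
(in an arbitrary ambient group) -/
theorem coset_sum_fixC_gen {M : Type*} [AddCommMonoid M] (F : Γ → M)
    (hF : ∀ γ ∈ G, ∀ x : Γ, F (γ * x * γ⁻¹) = F x) :
    Nat.card (fixC G s₀) • ∑ g : G, F (g * s₀) = Nat.card G • ∑ c : fixC G s₀, F (c * s₀) := by
  classical
  let ι : fixC G s₀ →* G := Subgroup.inclusion (fixC_le G s₀)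
  let Φ : G × fixC G s₀ → G := fun p =>
    ⟨(p.1 : Γ) * ((p.2 : Γ) * s₀) * (p.1 : Γ)⁻¹ * s₀⁻¹, by
      have h1 : (p.1 : Γ) * ((p.2 : Γ) * s₀) * (p.1 : Γ)⁻¹ * s₀⁻¹ =
          ((p.1 : Γ) * (p.2 : Γ)) * (s₀ * (p.1 : Γ)⁻¹ * s₀⁻¹) := by group
      rw [h1]
      exact G.mul_mem (G.mul_mem p.1.2 (fixC_le G s₀ p.2.2))
        (hG.conj_mem _ (G.inv_mem p.1.2) s₀)⟩
  have hΦ : ∀ p : G × fixC G s₀, ((Φ p : G) : Γ) * s₀ =
      (p.1 : Γ) * ((p.2 : Γ) * s₀) * (p.1 : Γ)⁻¹ := by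
    intro p
    simp only [Φ]
    group
  -- first evaluation
  have h1 : ∑ p : G × fixC G s₀, F (((Φ p : G) : Γ) * s₀) =
      Nat.card G • ∑ c : fixC G s₀, F (c * s₀) := by
    rw [Fintype.sum_prod_type]
    simp only [hΦ]
    have : ∀ γ : G, ∑ c : fixC G s₀, F ((γ : Γ) * ((c : Γ) * s₀) * (γ : Γ)⁻¹) =
        ∑ c : fixC G s₀, F (c * s₀) := by
      intro γ
      apply Finset.sum_congr rfl
      intro c _
      exact hF γ γ.2 _
    simp only [this, Finset.sum_const, Finset.card_univ, Nat.card_eq_fintype_card]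
  -- second evaluation
  have hfib : ∀ g : G, (Finset.univ.filter (fun p : G × fixC G s₀ => Φ p = g)).card =
      Nat.card (fixC G s₀) := by
    intro g
    obtain ⟨γ₀, hγ₀, c₀, hc₀, h0⟩ := exists_conj_mem_fixC_mul_gen G s₀ hcop g g.2
    let γ₀' : G := ⟨γ₀, hγ₀⟩
    let c₀' : fixC G s₀ := ⟨c₀, hc₀⟩
    have himg : Finset.univ.filter (fun p : G × fixC G s₀ => Φ p = g) =
        Finset.univ.image (fun k : fixC G s₀ => ((γ₀' * (ι k)⁻¹, k * c₀' * k⁻¹) : G × fixC G s₀)) := by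
      ext p
      simp only [Finset.mem_filter, Finset.mem_univ, true_and, Finset.mem_image]
      constructor
      · intro hp
        have h2 : (p.1 : Γ) * ((p.2 : Γ) * s₀) * (p.1 : Γ)⁻¹ = γ₀ * (c₀ * s₀) * γ₀⁻¹ := by
          rw [← hΦ p, hp, h0]
        have h3 : ((p.1 : Γ)⁻¹ * γ₀) * (c₀ * s₀) * ((p.1 : Γ)⁻¹ * γ₀)⁻¹ = (p.2 : Γ) * s₀ := by
          have : ((p.1 : Γ)⁻¹ * γ₀) * (c₀ * s₀) * ((p.1 : Γ)⁻¹ * γ₀)⁻¹ =
              (p.1 : Γ)⁻¹ * (γ₀ * (c₀ * s₀) * γ₀⁻¹) * (p.1 : Γ) := by group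
          rw [this, ← h2]; group
        obtain ⟨h4, h5⟩ := conj_fix_of_conj_eq G s₀ hcop hc₀ p.2.2 h3
        have hkG : (p.1 : Γ)⁻¹ * γ₀ ∈ G := G.mul_mem (G.inv_mem p.1.2) hγ₀
        have hk : (p.1 : Γ)⁻¹ * γ₀ ∈ fixC G s₀ := (mem_fixC G s₀ _).mpr ⟨hkG, h4⟩
        refine ⟨⟨_, hk⟩, ?_⟩
        apply Prod.ext
        · apply Subtype.ext
          simp [ι, γ₀']
        · apply Subtype.ext
          simp only [Subgroup.coe_mul, Subgroup.coe_inv, c₀']
          exact h5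
      · rintro ⟨k, rfl⟩
        apply Subtype.ext
        apply mul_right_cancel (b := s₀)
        rw [hΦ, ← h0]
        simp only [Subgroup.coe_mul, Subgroup.coe_inv, ι, Subgroup.coe_inclusion, γ₀', c₀']
        have hk := ((mem_fixC G s₀ _).mp k.2).2
        have hk' : (k : Γ)⁻¹ * s₀ = s₀ * (k : Γ)⁻¹ := by
          calc (k : Γ)⁻¹ * s₀ = (k : Γ)⁻¹ * (s₀ * (k : Γ)) * (k : Γ)⁻¹ := by group
            _ = (k : Γ)⁻¹ * ((k : Γ) * s₀) * (k : Γ)⁻¹ := by rw [hk]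
            _ = s₀ * (k : Γ)⁻¹ := by group
        calc γ₀ * (k : Γ)⁻¹ * ((k : Γ) * c₀ * (k : Γ)⁻¹ * s₀) * (γ₀ * (k : Γ)⁻¹)⁻¹
            = γ₀ * c₀ * ((k : Γ)⁻¹ * s₀) * (k : Γ) * γ₀⁻¹ := by group
          _ = γ₀ * c₀ * (s₀ * (k : Γ)⁻¹) * (k : Γ) * γ₀⁻¹ := by rw [hk']
          _ = γ₀ * (c₀ * s₀) * γ₀⁻¹ := by group
    rw [himg, Finset.card_image_of_injective, Finset.card_univ, Nat.card_eq_fintype_card]
    intro k k' hkk
    have h2 := congrArg Prod.fst hkk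
    simp only at h2
    have h3 : (ι k)⁻¹ = (ι k')⁻¹ := mul_left_cancel h2
    have h4 : ι k = ι k' := inv_injective h3
    exact Subgroup.inclusion_injective (fixC_le G s₀) h4
  have h2 : ∑ p : G × fixC G s₀, F (((Φ p : G) : Γ) * s₀) =
      Nat.card (fixC G s₀) • ∑ g : G, F (g * s₀) := by
    rw [← Finset.sum_fiberwise Finset.univ Φ]
    rw [Finset.smul_sum]
    apply Finset.sum_congr rfl
    intro g _
    have : ∀ p ∈ Finset.univ.filter (fun p : G × fixC G s₀ => Φ p = g),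
        F (((Φ p : G) : Γ) * s₀) = F (g * s₀) := by
      intro p hp
      rw [(Finset.mem_filter.mp hp).2]
    rw [Finset.sum_congr rfl this, Finset.sum_const, hfib]
  rw [← h2, h1]

end CosetSumGen

section RowsGen

variable {Γ : Type u} [Group Γ] [Fintype Γ] {A : Type v} [CommGroup A] [Finite A] (π : Γ →* A)
  (G : Subgroup Γ) [Fintype G] (hπ : Function.Surjective π) (hker : ∀ x : Γ, π x = 1 ↔ x ∈ G)

include hπ hker in
/-- first orthogonality on `C x` for an arbitrary element `x` of order prime to `|G|`, where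
`C = C_G(x)` -/
theorem row_self_gen (x : Γ) (C : Subgroup Γ) [Fintype C] (hC : fixC G x = C)
    (hcop : (Nat.card G).Coprime (orderOf x)) {ξ : Γ → ℂ} (hξ : IsIrrCharacter Γ ξ)
    (hres : IsIrrCharacter G (fun g : G => ξ g)) :
    ∑ c : C, ξ (c * x) * conj (ξ (c * x)) = (Nat.card C : ℂ) := by
  classical
  subst hC
  haveI := normal_of_hker π G hker
  have hG0 : (Nat.card G : ℂ) ≠ 0 := by exact_mod_cast (Nat.card_pos (α := G)).ne'
  have hcl := isClassFunction_of_isCharacter (IsIrrCharacter.isCharacter hξ)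
  have h0 := coset_sum_fixC_gen G x hcop (fun y => ξ y * conj (ξ y))
    (fun γ _ y => by simp only [hcl y γ])
  rw [nsmul_eq_mul, nsmul_eq_mul] at h0
  rw [← coset_sum_eq_sum π G hker (fun y => ξ y * conj (ξ y)) x,
    coset_sum_self π G hπ hker hξ hres x, mul_comm] at h0
  exact (mul_left_cancel₀ hG0 h0).symm

end RowsGen

end Cfsg.Agent.Helper79.GlaubFpf
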