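import Cfsg.Agent.Lib.Helper79.GlaubFpf.Sign

set_option autoImplicit false
set_option linter.unusedSectionVars false
set_option linter.style.haveILetI false

namespace Cfsg.Agent.Helper79.GlaubFpf

open scoped ComplexConjugate

section Fourier

variable {A : Type*} [CommGroup A] [Fintype A]

/-- row orthogonality for the characters of a finite abelian group -/
theorem row_orth (ψ ψ₁ : AddChar (Additive A) ℂ) [Decidable (ψ = ψ₁)] :
    ∑ a : A, ψ (Additive.ofMul a) * conj (ψ₁ (Additive.ofMul a)) =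
      if ψ = ψ₁ then (Nat.card A : ℂ) else 0 := by
  classical
  have h1 : ∀ a : A, ψ (Additive.ofMul a) * conj (ψ₁ (Additive.ofMul a)) =
      (ψ * ψ₁⁻¹) (Additive.ofMul a) := by
    intro a
    rw [AddChar.mul_apply, AddChar.inv_apply, AddChar.map_neg_eq_conj]
  simp only [h1]
  have h2 := AddChar.sum_eq_ite (ψ * ψ₁⁻¹) (A := Additive A) (R := ℂ)
  have h3 : ∑ a : A, (ψ * ψ₁⁻¹) (Additive.ofMul a) = ∑ a : Additive A, (ψ * ψ₁⁻¹) a :=
    Fintype.sum_equiv Additive.ofMul _ _ (fun _ => rfl)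
  rw [h3, h2]
  have h4 : (ψ * ψ₁⁻¹ = 0) ↔ ψ = ψ₁ := by
    rw [← AddChar.one_eq_zero, mul_inv_eq_one]
  simp only [h4]
  split_ifs
  · rw [Nat.card_eq_fintype_card, Fintype.card_congr Additive.ofMul.symm]
  · rfl

/-- the Fourier coefficients of a combination of characters -/
theorem fourier_coeff (m : AddChar (Additive A) ℂ → ℂ) (ψ₁ : AddChar (Additive A) ℂ) :
    ∑ a : A, (∑ ψ : AddChar (Additive A) ℂ, m ψ * ψ (Additive.ofMul a)) *
      conj (ψ₁ (Additive.ofMul a)) = (Nat.card A : ℂ) * m ψ₁ := by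
  classical
  have h1 : ∀ a : A, (∑ ψ : AddChar (Additive A) ℂ, m ψ * ψ (Additive.ofMul a)) *
      conj (ψ₁ (Additive.ofMul a)) =
      ∑ ψ : AddChar (Additive A) ℂ, m ψ * (ψ (Additive.ofMul a) *
        conj (ψ₁ (Additive.ofMul a))) := by
    intro a
    rw [Finset.sum_mul]
    apply Finset.sum_congr rfl
    intro ψ _
    ring
  simp only [h1]
  rw [Finset.sum_comm]
  simp only [← Finset.mul_sum, row_orth]
  rw [Finset.sum_eq_single ψ₁]
  · rw [if_pos rfl, mul_comm]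
  · intro ψ _ hne
    rw [if_neg hne, mul_zero]
  · intro h; exact absurd (Finset.mem_univ _) h

/-- Parseval's identity -/
theorem parseval (m : AddChar (Additive A) ℂ → ℂ) :
    ∑ a : A, (∑ ψ : AddChar (Additive A) ℂ, m ψ * ψ (Additive.ofMul a)) *
      conj (∑ ψ : AddChar (Additive A) ℂ, m ψ * ψ (Additive.ofMul a)) =
      (Nat.card A : ℂ) * ∑ ψ : AddChar (Additive A) ℂ, m ψ * conj (m ψ) := by
  classical
  have h1 : ∀ a : A, (∑ ψ : AddChar (Additive A) ℂ, m ψ * ψ (Additive.ofMul a)) *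
      conj (∑ ψ : AddChar (Additive A) ℂ, m ψ * ψ (Additive.ofMul a)) =
      ∑ ψ₁ : AddChar (Additive A) ℂ, conj (m ψ₁) *
        ((∑ ψ : AddChar (Additive A) ℂ, m ψ * ψ (Additive.ofMul a)) *
          conj (ψ₁ (Additive.ofMul a))) := by
    intro a
    rw [map_sum, Finset.mul_sum]
    apply Finset.sum_congr rfl
    intro ψ₁ _
    rw [map_mul]
    ring
  simp only [h1]
  rw [Finset.sum_comm]
  simp only [← Finset.mul_sum, fourier_coeff]
  rw [Finset.mul_sum]
  apply Finset.sum_congr rfl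
  intro ψ _
  ring

/-- the sum of all characters vanishes off the identity -/
theorem sum_char_apply (a : A) (ha : a ≠ 1) :
    ∑ ψ : AddChar (Additive A) ℂ, ψ (Additive.ofMul a) = 0 := by
  classical
  rw [AddChar.sum_apply_eq_ite, if_neg]
  intro h
  apply ha
  have : Additive.toMul (Additive.ofMul a) = Additive.toMul (0 : Additive A) := by rw [h]
  simpa using this

/-- a combination of characters vanishing off the identity has constant coefficients -/
theorem const_of_vanish (m : AddChar (Additive A) ℂ → ℂ)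
    (h : ∀ a : A, a ≠ 1 → ∑ ψ : AddChar (Additive A) ℂ, m ψ * ψ (Additive.ofMul a) = 0)
    (ψ₁ : AddChar (Additive A) ℂ) :
    (Nat.card A : ℂ) * m ψ₁ = ∑ ψ : AddChar (Additive A) ℂ, m ψ := by
  classical
  rw [← fourier_coeff m ψ₁]
  rw [Finset.sum_eq_single (1 : A)]
  · have h1 : Additive.ofMul (1 : A) = 0 := rfl
    simp only [h1, AddChar.map_zero_eq_one, mul_one, map_one]
  · intro a _ ha
    rw [h a ha, zero_mul]
  · intro h; exact absurd (Finset.mem_univ _) h

/-- **The sign structure.** A nonnegative integer combination of the characters of a finite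
abelian group all of whose values off the identity are signs is a multiple of the regular
character plus or minus a single character. -/
theorem exists_sign_char (m : AddChar (Additive A) ℂ → ℕ)
    (hval : ∀ a : A, a ≠ 1 → ∃ ε : ℤ, (ε = 1 ∨ ε = -1) ∧
      ∑ ψ : AddChar (Additive A) ℂ, (m ψ : ℂ) * ψ (Additive.ofMul a) = (ε : ℂ)) :
    ∃ ψ₀ : AddChar (Additive A) ℂ, ∃ δ : ℤ, (δ = 1 ∨ δ = -1) ∧ ∃ a' : ℤ,
      ∀ ψ : AddChar (Additive A) ℂ, (m ψ : ℤ) = a' + if ψ = ψ₀ then δ else 0 := by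
  classical
  set n : ℕ := Nat.card A with hn
  have hnpos : 0 < n := Nat.card_pos
  have hcard : Fintype.card (AddChar (Additive A) ℂ) = n := by
    rw [AddChar.card_eq, hn, Nat.card_eq_fintype_card, Fintype.card_congr Additive.ofMul.symm]
  set M : ℤ := ∑ ψ : AddChar (Additive A) ℂ, (m ψ : ℤ) with hM
  -- Parseval
  have hpars := parseval (A := A) (fun ψ => (m ψ : ℂ))
  rw [← Finset.add_sum_erase Finset.univ _ (Finset.mem_univ (1 : A))] at hpars
  have h1 : Additive.ofMul (1 : A) = 0 := rfl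
  have hrest : ∑ a ∈ Finset.univ.erase (1 : A),
      (∑ ψ : AddChar (Additive A) ℂ, (m ψ : ℂ) * ψ (Additive.ofMul a)) *
      conj (∑ ψ : AddChar (Additive A) ℂ, (m ψ : ℂ) * ψ (Additive.ofMul a)) =
      ((n : ℂ) - 1) := by
    have h2 : ∀ a ∈ Finset.univ.erase (1 : A),
        (∑ ψ : AddChar (Additive A) ℂ, (m ψ : ℂ) * ψ (Additive.ofMul a)) *
        conj (∑ ψ : AddChar (Additive A) ℂ, (m ψ : ℂ) * ψ (Additive.ofMul a)) = 1 := by
      intro a ha
      obtain ⟨ε, hε, hεv⟩ := hval a (Finset.ne_of_mem_erase ha)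
      rw [hεv]
      rcases hε with h | h <;> rw [h] <;> simp
    rw [Finset.sum_congr rfl h2, Finset.sum_const, Finset.card_erase_of_mem (Finset.mem_univ _),
      Finset.card_univ, ← Nat.card_eq_fintype_card, ← hn]
    rw [nsmul_eq_mul, mul_one, Nat.cast_sub hnpos]
    simp
  rw [hrest] at hpars
  simp only [h1, AddChar.map_zero_eq_one, mul_one] at hpars
  have hparsZ : M ^ 2 + ((n : ℤ) - 1) = (n : ℤ) * ∑ ψ : AddChar (Additive A) ℂ, (m ψ : ℤ) ^ 2 := by
    have h3 : ((M ^ 2 + ((n : ℤ) - 1) : ℤ) : ℂ) =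
        (((n : ℤ) * ∑ ψ : AddChar (Additive A) ℂ, (m ψ : ℤ) ^ 2 : ℤ) : ℂ) := by
      push_cast
      rw [hM]
      push_cast
      simp only [map_sum, Complex.conj_natCast] at hpars
      have h4 : ∑ ψ : AddChar (Additive A) ℂ, (m ψ : ℂ) ^ 2 =
          ∑ ψ : AddChar (Additive A) ℂ, (m ψ : ℂ) * (m ψ : ℂ) := by
        apply Finset.sum_congr rfl
        intro ψ _
        ring
      rw [h4, hn, ← hpars]
      ring
    exact_mod_cast h3
  -- the integers `t`
  set t : AddChar (Additive A) ℂ → ℤ := fun ψ => (n : ℤ) * (m ψ : ℤ) - M with ht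
  have hcardsum : (∑ _ψ : AddChar (Additive A) ℂ, (1 : ℤ)) = n := by
    rw [Finset.sum_const, Finset.card_univ, hcard]
    simp
  have hsum : ∑ ψ, t ψ = 0 := by
    simp only [ht]
    rw [Finset.sum_sub_distrib, ← Finset.mul_sum, ← hM]
    have : ∑ _ψ : AddChar (Additive A) ℂ, M = M * ∑ _ψ : AddChar (Additive A) ℂ, (1 : ℤ) := by
      rw [Finset.mul_sum]
      simp
    rw [this, hcardsum]
    ring
  have hsq : ∑ ψ, t ψ ^ 2 = (n : ℤ) * ((n : ℤ) - 1) := by
    have h5 : ∀ ψ : AddChar (Additive A) ℂ, t ψ ^ 2 =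
        (n : ℤ) ^ 2 * (m ψ : ℤ) ^ 2 - 2 * (n : ℤ) * M * (m ψ : ℤ) + M ^ 2 * 1 := by
      intro ψ
      simp only [ht]
      ring
    simp only [h5]
    rw [Finset.sum_add_distrib, Finset.sum_sub_distrib, ← Finset.mul_sum, ← Finset.mul_sum,
      ← Finset.mul_sum, hcardsum, ← hM]
    have h6 : (n : ℤ) ^ 2 * ∑ ψ : AddChar (Additive A) ℂ, (m ψ : ℤ) ^ 2 =
        (n : ℤ) * (M ^ 2 + ((n : ℤ) - 1)) := by
      rw [hparsZ]; ring
    rw [h6]
    ring
  have hcong : ∀ ψ, (n : ℤ) ∣ t ψ + M := by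
    intro ψ
    simp only [ht]
    exact ⟨(m ψ : ℤ), by ring⟩
  obtain ⟨ψ₀, δ, hδ, hψ₀, hothers⟩ := sign_structure n hcard hnpos t M hsum hsq hcong
  refine ⟨ψ₀, δ, hδ, (m ψ₀ : ℤ) - δ, ?_⟩
  have hnZ : (n : ℤ) ≠ 0 := by exact_mod_cast hnpos.ne'
  have hMδ : M - δ = (n : ℤ) * ((m ψ₀ : ℤ) - δ) := by
    simp only [ht] at hψ₀
    linarith
  intro ψ
  by_cases hψ : ψ = ψ₀
  · rw [if_pos hψ, hψ]; ring
  · rw [if_neg hψ, add_zero]
    have h7 := hothers ψ hψ
    simp only [ht] at h7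
    have h8 : (n : ℤ) * (m ψ : ℤ) = (n : ℤ) * ((m ψ₀ : ℤ) - δ) := by linarith
    exact mul_left_cancel₀ hnZ h8

end Fourier

end Cfsg.Agent.Helper79.GlaubFpf
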