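import Cfsg.Agent.Lib.Helper79.GlaubFpf.AllPow
import Cfsg.Agent.Lib.Helper79.GlaubFpf.Fourier
import Cfsg.Agent.Lib.Helper79.Glaub.Core
import Cfsg.Agent.Lib.Helper81.CharFrob

set_option autoImplicit false
set_option linter.unusedSectionVars false
set_option linter.style.haveILetI false

namespace Cfsg.Agent.Helper79.GlaubFpf

open Cfsg Cfsg.Agent.Helper81 Cfsg.Agent.Helper79.Glaub
open scoped ComplexConjugate

universe u v

section FpfCore

variable {Γ : Type u} [Group Γ] [Fintype Γ] {A : Type v} [CommGroup A] [Finite A] (π : Γ →* A)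
  (G : Subgroup Γ) [Fintype G] (hπ : Function.Surjective π) (hker : ∀ x : Γ, π x = 1 ↔ x ∈ G)
  (s₀ : Γ) (hs₀ : orderOf s₀ = Nat.card A)
  (hcop : (Nat.card G).Coprime (Nat.card A))

/-- the linear characters of the quotient are characters -/
theorem isCharacter_linChar' (ψ : AddChar (Additive A) ℂ) : IsCharacter Γ (linChar π ψ) := by
  classical
  have h1 := isIrrCharacter_linChar_mul π ψ (Cfsg.Agent.Helper81.isIrrCharacter_one (G := Γ))
  have h2 : (linChar π ψ * fun _ : Γ => (1 : ℂ)) = linChar π ψ := by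
    funext x
    simp
  rw [h2] at h1
  exact IsIrrCharacter.isCharacter h1

include hπ hker hs₀ hcop in
theorem fpf_core (hgen : ∀ b : A, b ∈ Subgroup.zpowers (π s₀))
    (S : Subgroup Γ) (hS : S = Subgroup.zpowers s₀) (C : Subgroup Γ) [Fintype C]
    (hCeq : C = fixC G s₀) (hCG : C ≤ G)
    (hfpf : ∀ x ∈ S, x ≠ 1 → G ⊓ Subgroup.centralizer ({x} : Set Γ) = C)
    (χ : IrrCharacter G) (χh : IrrCharacter Γ)
    (hext : ∀ g : G, (χh : Γ → ℂ) g = (χ : G → ℂ) g)
    (hdet : (detOrder (χh : Γ → ℂ)).Coprime (Nat.card S)) (β : IrrCharacter C) (ε₀ : ℤ)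
    (hε₀ : ε₀ = 1 ∨ ε₀ = -1)
    (hβ : ∀ c : C, ∀ s : Γ, Subgroup.zpowers s = S →
      (χh : Γ → ℂ) ((c : Γ) * s) = (ε₀ : ℂ) * (β : C → ℂ) c) :
    ∃ ε : ℤ, (ε = 1 ∨ ε = -1) ∧
      (∃ μ : S → ℂ, IsCharacter S μ ∧ μ 1 = 1 ∧ (∀ x : S, μ x * μ x = 1) ∧
        ∀ c : C, ∀ x : S, x ≠ 1 →
          (χh : Γ → ℂ) ((c : Γ) * x) = (ε : ℂ) * (β : C → ℂ) c * μ x) ∧
      (∃ ϑ : C → ℂ, IsCharacter C ϑ ∧ (fun c : C => (χ : G → ℂ) ⟨c, hCG c.2⟩) =
        fun c => (Nat.card S : ℂ) * ϑ c + (ε : ℂ) * (β : C → ℂ) c) ∧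
      (Nat.card S : ℤ) ∣ (charDegree (χ : G → ℂ) : ℤ) - ε * (charDegree (β : C → ℂ) : ℤ) := by
  classical
  subst hS
  subst hCeq
  haveI : Fintype A := Fintype.ofFinite A
  have hG := normal_of_hker π G hker
  have hcardS : Nat.card (Subgroup.zpowers s₀) = Nat.card A := by rw [Nat.card_zpowers, hs₀]
  rw [hcardS] at hdet ⊢
  set n : ℕ := Nat.card A with hn
  have hnpos : 0 < n := Nat.card_pos
  have hnC : (n : ℂ) ≠ 0 := by exact_mod_cast hnpos.ne'
  have hres : IsIrrCharacter G (fun g : G => (χh : Γ → ℂ) g) := by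
    have : (fun g : G => (χh : Γ → ℂ) g) = (χ : G → ℂ) := funext hext
    rw [this]
    exact χ.2
  have hfpf' : ∀ k : ℕ, s₀ ^ k ≠ 1 → fixC G (s₀ ^ k) = fixC G s₀ := fun k hk =>
    hfpf (s₀ ^ k) (Subgroup.pow_mem _ (Subgroup.mem_zpowers s₀) k) hk
  have hP := all_pow π G hπ hker s₀ hs₀ hcop hfpf' χh.2 hres hdet β ε₀ hε₀
    (fun c => hβ c s₀ rfl)
  have hone : classInner (β : fixC G s₀ → ℂ) (β : fixC G s₀ → ℂ) = 1 := by
    rw [Cfsg.Agent.Helper81.irr_orthonormal β.2 β.2, if_pos rfl]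
  -- the multiplicities
  have hm : ∀ β' : IrrCharacter (fixC G s₀), ∃ m : AddChar (Additive A) ℂ → ℕ, ∀ k : ℕ,
      classInner (fun c : fixC G s₀ => (χh : Γ → ℂ) (c * s₀ ^ k)) (β' : fixC G s₀ → ℂ) =
        ∑ ψ : AddChar (Additive A) ℂ, (m ψ : ℂ) * linChar π ψ s₀ ^ k := fun β' =>
    exists_nat_coeff π G hker s₀ hs₀ hcop (IsIrrCharacter.isCharacter χh.2) β'.2
  choose m hm using hm
  -- elements of `A` as powers
  have hpowA : ∀ a : A, ∃ k : ℕ, π (s₀ ^ k) = a := by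
    intro a
    have h1 := hgen a
    rw [← mem_powers_iff_mem_zpowers] at h1
    obtain ⟨k, hk⟩ := h1
    exact ⟨k, by rw [map_pow]; exact hk⟩
  have hchar : ∀ (ψ : AddChar (Additive A) ℂ) (k : ℕ),
      ψ (Additive.ofMul (π (s₀ ^ k))) = linChar π ψ s₀ ^ k := by
    intro ψ k
    rw [← linChar_pow, linChar_apply]
  -- values of the combinations off the identity
  have hvalA : ∀ (β' : IrrCharacter (fixC G s₀)) (a : A), a ≠ 1 → ∃ ε : ℤ, (ε = 1 ∨ ε = -1) ∧
      ∑ ψ : AddChar (Additive A) ℂ, (m β' ψ : ℂ) * ψ (Additive.ofMul a) =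
        if β' = β then (ε : ℂ) else 0 := by
    intro β' a ha
    obtain ⟨k, rfl⟩ := hpowA a
    have hk1 : s₀ ^ k ≠ 1 := by
      intro h
      apply ha
      rw [h, map_one]
    obtain ⟨ε, hε, hεv⟩ := hP k hk1
    refine ⟨ε, hε, ?_⟩
    simp only [hchar]
    rw [← hm β' k]
    have : (fun c : fixC G s₀ => (χh : Γ → ℂ) (c * s₀ ^ k)) =
        (ε : ℂ) • (β : fixC G s₀ → ℂ) := by
      funext c
      rw [hεv c]
      rfl
    rw [this, classInner_smul_left, Cfsg.Agent.Helper81.irr_orthonormal β.2 β'.2]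
    by_cases hββ' : β' = β
    · rw [if_pos hββ', if_pos (by rw [hββ']), mul_one]
    · rw [if_neg hββ', if_neg, mul_zero]
      intro h
      exact hββ' (Subtype.ext h).symm
  -- the multiplicities in the restriction of `χ`
  have hW0 : ∀ β' : IrrCharacter (fixC G s₀),
      classInner (fun c : fixC G s₀ => (χ : G → ℂ) ⟨c, hCG c.2⟩) (β' : fixC G s₀ → ℂ) =
        ∑ ψ : AddChar (Additive A) ℂ, (m β' ψ : ℂ) := by
    intro β'
    have h1 := hm β' 0
    simp only [pow_zero, mul_one] at h1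
    rw [← h1]
    congr 1
    funext c
    exact (hext ⟨c, hCG c.2⟩).symm
  -- the sign structure for `β`
  obtain ⟨ψ₀, δ, hδ, a', ha'⟩ := exists_sign_char (m β) (by
    intro a ha
    obtain ⟨ε, hε, hεv⟩ := hvalA β a ha
    rw [if_pos rfl] at hεv
    exact ⟨ε, hε, hεv⟩)
  have hcardÂ : Fintype.card (AddChar (Additive A) ℂ) = n := by
    rw [AddChar.card_eq, hn, Nat.card_eq_fintype_card, Fintype.card_congr Additive.ofMul.symm]
  have hδC : (δ : ℂ) * (δ : ℂ) = 1 := by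
    rcases hδ with h | h <;> rw [h] <;> simp
  -- `M = n a' + δ`
  have hM : (∑ ψ : AddChar (Additive A) ℂ, (m β ψ : ℤ)) = (n : ℤ) * a' + δ := by
    simp only [ha']
    rw [Finset.sum_add_distrib, Finset.sum_const, Finset.card_univ, hcardÂ,
      Finset.sum_ite_eq' Finset.univ ψ₀, if_pos (Finset.mem_univ _)]
    simp
  have hMpos : 0 < ∑ ψ : AddChar (Additive A) ℂ, (m β ψ : ℤ) := by
    have h1 : classInner (fun c : fixC G s₀ => (χh : Γ → ℂ) (c * s₀)) (β : fixC G s₀ → ℂ) ≠ 0 := by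
      have : (fun c : fixC G s₀ => (χh : Γ → ℂ) (c * s₀)) =
          (ε₀ : ℂ) • (β : fixC G s₀ → ℂ) := by
        funext c
        rw [hβ c s₀ rfl]
        rfl
      rw [this, classInner_smul_left, hone, mul_one]
      rcases hε₀ with h | h <;> rw [h] <;> simp
    have h2 := constituent_of_inner_ne π G hker s₀ hs₀ hcop
      (IsIrrCharacter.isCharacter χh.2) β.2 h1
    have h3 : (fun c : fixC G s₀ => (χh : Γ → ℂ) c) =
        (fun c : fixC G s₀ => (χ : G → ℂ) ⟨c, hCG c.2⟩) := by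
      funext c
      exact hext ⟨c, hCG c.2⟩
    rw [h3, hW0 β] at h2
    have h4 : (∑ ψ : AddChar (Additive A) ℂ, (m β ψ : ℤ)) ≠ 0 := by
      intro h0
      apply h2
      have : ((∑ ψ : AddChar (Additive A) ℂ, (m β ψ : ℤ) : ℤ) : ℂ) = 0 := by rw [h0]; simp
      push_cast at this
      exact this
    have h5 : 0 ≤ ∑ ψ : AddChar (Additive A) ℂ, (m β ψ : ℤ) :=
      Finset.sum_nonneg (fun ψ _ => Int.natCast_nonneg _)
    omega
  have ha'nn : 0 ≤ a' := by
    by_contra hcon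
    push Not at hcon
    have h1 : (n : ℤ) * a' ≤ (n : ℤ) * (-1) :=
      mul_le_mul_of_nonneg_left (by omega) (by exact_mod_cast hnpos.le)
    have h2 : (1 : ℤ) ≤ n := by exact_mod_cast hnpos
    rcases hδ with h | h <;> rw [h] at hM <;> omega
  -- the value of the combination for `β` off the identity
  have hβval : ∀ a : A, a ≠ 1 →
      ∑ ψ : AddChar (Additive A) ℂ, (m β ψ : ℂ) * ψ (Additive.ofMul a) =
        (δ : ℂ) * ψ₀ (Additive.ofMul a) := by
    intro a ha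
    have h1 : ∀ ψ : AddChar (Additive A) ℂ, (m β ψ : ℂ) =
        (a' : ℂ) + if ψ = ψ₀ then (δ : ℂ) else 0 := by
      intro ψ
      have h2 : ((m β ψ : ℤ) : ℂ) = ((a' + if ψ = ψ₀ then δ else 0 : ℤ) : ℂ) := by rw [ha' ψ]
      push_cast at h2
      exact h2
    simp only [h1, add_mul, ite_mul, zero_mul]
    rw [Finset.sum_add_distrib, ← Finset.mul_sum, sum_char_apply a ha, mul_zero, zero_add,
      Finset.sum_ite_eq' Finset.univ ψ₀, if_pos (Finset.mem_univ _)]
  -- the values of `χ̂`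
  have hχhval : ∀ k : ℕ, s₀ ^ k ≠ 1 → ∀ c : fixC G s₀,
      (χh : Γ → ℂ) (c * s₀ ^ k) = (δ : ℂ) * (β : fixC G s₀ → ℂ) c * linChar π ψ₀ (s₀ ^ k) ∧
        linChar π ψ₀ (s₀ ^ k) * linChar π ψ₀ (s₀ ^ k) = 1 := by
    intro k hk1 c
    have ha : π (s₀ ^ k) ≠ 1 := by
      intro h
      have h1 : s₀ ^ k ∈ G := (hker _).mp h
      exact hk1 (eq_one_of_mem_zpowers G s₀ (by rw [hs₀]; exact hcop)
        (Subgroup.pow_mem _ (Subgroup.mem_zpowers s₀) k) h1)
    obtain ⟨ε, hε, hεv⟩ := hP k hk1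
    obtain ⟨ε', hε', hεv'⟩ := hvalA β (π (s₀ ^ k)) ha
    rw [if_pos rfl, hβval _ ha] at hεv'
    -- `ε' = ε`
    have hεε' : (ε' : ℂ) = (ε : ℂ) := by
      have h1 := hm β k
      have : (fun c : fixC G s₀ => (χh : Γ → ℂ) (c * s₀ ^ k)) =
          (ε : ℂ) • (β : fixC G s₀ → ℂ) := by
        funext c
        rw [hεv c]
        rfl
      rw [this, classInner_smul_left, hone, mul_one] at h1
      rw [← hεv', h1, ← hβval _ ha]
      simp only [hchar]
    have hlin : linChar π ψ₀ (s₀ ^ k) = (δ : ℂ) * (ε : ℂ) := by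
      rw [linChar_apply, ← hεε', ← hεv', ← mul_assoc, hδC, one_mul]
    refine ⟨?_, ?_⟩
    · rw [hεv c, hlin]
      calc (ε : ℂ) * (β : fixC G s₀ → ℂ) c
          = ((δ : ℂ) * (δ : ℂ)) * ((ε : ℂ) * (β : fixC G s₀ → ℂ) c) := by rw [hδC, one_mul]
        _ = (δ : ℂ) * (β : fixC G s₀ → ℂ) c * ((δ : ℂ) * (ε : ℂ)) := by ring
    · rw [hlin]
      have hεC : (ε : ℂ) * (ε : ℂ) = 1 := by
        rcases hε with h | h <;> rw [h] <;> simp
      calc (δ : ℂ) * (ε : ℂ) * ((δ : ℂ) * (ε : ℂ))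
          = ((δ : ℂ) * (δ : ℂ)) * ((ε : ℂ) * (ε : ℂ)) := by ring
        _ = 1 := by rw [hδC, hεC, one_mul]
  -- the other constituents
  have hother : ∀ β' : IrrCharacter (fixC G s₀), β' ≠ β →
      ∑ ψ : AddChar (Additive A) ℂ, (m β' ψ : ℂ) = (n : ℂ) * (m β' 1 : ℂ) := by
    intro β' hne
    have h1 := const_of_vanish (A := A) (fun ψ => (m β' ψ : ℂ)) (by
      intro a ha
      obtain ⟨ε, _, hεv⟩ := hvalA β' a ha
      rw [if_neg hne] at hεv
      exact hεv) 1
    rw [← h1]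
  -- the coefficients of `ϑ`
  set coef : IrrCharacter (fixC G s₀) → ℕ := fun β' => if β' = β then a'.toNat else m β' 1
    with hcoef
  have hW0' : ∀ β' : IrrCharacter (fixC G s₀),
      classInner (fun c : fixC G s₀ => (χ : G → ℂ) ⟨c, hCG c.2⟩) (β' : fixC G s₀ → ℂ) =
        (n : ℂ) * (coef β' : ℂ) + if β' = β then (δ : ℂ) else 0 := by
    intro β'
    rw [hW0 β']
    simp only [hcoef]
    by_cases hββ' : β' = β
    · rw [if_pos hββ', if_pos hββ', hββ']
      have h1 : ((∑ ψ : AddChar (Additive A) ℂ, (m β ψ : ℤ) : ℤ) : ℂ) =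
          (((n : ℤ) * a' + δ : ℤ) : ℂ) := by rw [hM]
      push_cast at h1
      rw [h1]
      have h2 : ((a'.toNat : ℕ) : ℂ) = (a' : ℂ) := by
        have : ((a'.toNat : ℕ) : ℤ) = a' := Int.toNat_of_nonneg ha'nn
        exact_mod_cast congrArg (fun z : ℤ => (z : ℂ)) this
      rw [h2]
    · rw [if_neg hββ', if_neg hββ', add_zero]
      exact hother β' hββ'
  set ϑ : fixC G s₀ → ℂ := ∑ β' : IrrCharacter (fixC G s₀), coef β' • (β' : fixC G s₀ → ℂ)
    with hϑ
  have hϑchar : IsCharacter (fixC G s₀) ϑ := by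
    apply isCharacter_sum
    intro β' _
    exact isCharacter_nsmul (coef β') (IsIrrCharacter.isCharacter β'.2)
  have hrestr : (fun c : fixC G s₀ => (χ : G → ℂ) ⟨c, hCG c.2⟩) =
      fun c => (n : ℂ) * ϑ c + (δ : ℂ) * (β : fixC G s₀ → ℂ) c := by
    have hcl : IsClassFunction (fixC G s₀) (fun c : fixC G s₀ => (χ : G → ℂ) ⟨c, hCG c.2⟩) := by
      have h1 : (fun c : fixC G s₀ => (χ : G → ℂ) ⟨c, hCG c.2⟩) =
          (fun c : fixC G s₀ => (χh : Γ → ℂ) c) := by
        funext c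
        exact (hext ⟨c, hCG c.2⟩).symm
      rw [h1]
      exact isClassFunction_of_isCharacter
        (isCharacter_restrict (fixC G s₀) (IsIrrCharacter.isCharacter χh.2))
    have h2 := class_function_expansion hcl
    funext c
    have h3 := congrFun h2 c
    rw [h3, Finset.sum_apply]
    simp only [hW0', Pi.smul_apply, smul_eq_mul, add_mul, ite_mul, zero_mul]
    rw [Finset.sum_add_distrib, Finset.sum_ite_eq' Finset.univ β, if_pos (Finset.mem_univ _)]
    congr 1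
    rw [hϑ, Finset.sum_apply, Finset.mul_sum]
    apply Finset.sum_congr rfl
    intro β' _
    rw [Pi.smul_apply, nsmul_eq_mul]
    ring
  refine ⟨δ, hδ, ?_, ⟨ϑ, hϑchar, hrestr⟩, ?_⟩
  · -- the linear character
    refine ⟨fun x : Subgroup.zpowers s₀ => linChar π ψ₀ (x : Γ),
      isCharacter_restrict (Subgroup.zpowers s₀) (isCharacter_linChar' π ψ₀), ?_, ?_, ?_⟩
    · show linChar π ψ₀ ((1 : Subgroup.zpowers s₀) : Γ) = 1
      rw [Subgroup.coe_one, linChar_one]
    · intro x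
      have hx := x.2
      rw [← mem_powers_iff_mem_zpowers] at hx
      obtain ⟨k, hk⟩ := hx
      by_cases hx1 : (x : Γ) = 1
      · show linChar π ψ₀ (x : Γ) * linChar π ψ₀ (x : Γ) = 1
        rw [hx1, linChar_one, one_mul]
      · have hk1 : s₀ ^ k ≠ 1 := by
          simp only at hk
          rw [hk]; exact hx1
        have := (hχhval k hk1 1).2
        simp only at hk
        rw [hk] at this
        exact this
    · intro c x hx
      have hx' := x.2
      rw [← mem_powers_iff_mem_zpowers] at hx'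
      obtain ⟨k, hk⟩ := hx'
      simp only at hk
      have hk1 : s₀ ^ k ≠ 1 := by
        rw [hk]
        intro h
        apply hx
        exact Subtype.ext h
      have := (hχhval k hk1 c).1
      rw [hk] at this
      exact this
  · -- the degrees
    have h1 := congrFun hrestr 1
    have h2 : (⟨((1 : fixC G s₀) : Γ), hCG (1 : fixC G s₀).2⟩ : G) = 1 := rfl
    rw [h2, (Cfsg.Agent.Helper79.irr_one_eq χ).1, (Cfsg.Agent.Helper79.irr_one_eq β).1] at h1
    have h3 : ϑ 1 = ((∑ β' : IrrCharacter (fixC G s₀),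
        coef β' * charDegree (β' : fixC G s₀ → ℂ) : ℕ) : ℂ) := by
      rw [hϑ, Finset.sum_apply]
      push_cast
      apply Finset.sum_congr rfl
      intro β' _
      rw [Pi.smul_apply, nsmul_eq_mul, (Cfsg.Agent.Helper79.irr_one_eq β').1]
    rw [h3] at h1
    refine ⟨((∑ β' : IrrCharacter (fixC G s₀),
        coef β' * charDegree (β' : fixC G s₀ → ℂ) : ℕ) : ℤ), ?_⟩
    have h4 : ((charDegree (χ : G → ℂ) : ℤ) : ℂ) =
        (((n : ℤ) * ((∑ β' : IrrCharacter (fixC G s₀),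
          coef β' * charDegree (β' : fixC G s₀ → ℂ) : ℕ) : ℤ) +
          δ * (charDegree (β : fixC G s₀ → ℂ) : ℤ) : ℤ) : ℂ) := by
      push_cast
      push_cast at h1
      exact h1
    have h5 : (charDegree (χ : G → ℂ) : ℤ) =
        (n : ℤ) * ((∑ β' : IrrCharacter (fixC G s₀),
          coef β' * charDegree (β' : fixC G s₀ → ℂ) : ℕ) : ℤ) +
          δ * (charDegree (β : fixC G s₀ → ℂ) : ℤ) := by exact_mod_cast h4
    rw [h5]
    ring

end FpfCore

end Cfsg.Agent.Helper79.GlaubFpf
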