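import Cfsg.Agent.Lib.Helper79.GlaubFpf.FpfCore
import Cfsg.Agent.Lib.Helper79.Glaub.Final

set_option autoImplicit false
set_option linter.unusedSectionVars false
set_option linter.style.haveILetI false

namespace Cfsg.Agent.Helper79.GlaubFpf

open Cfsg Cfsg.Agent.Helper81 Cfsg.Agent.Helper79.Glaub
open scoped ComplexConjugate Pointwise

universe u

/-- **Glauberman correspondence, cyclic fixed-point-free-like case.** -/
theorem fpf_cyclic {Γ : Type u} [Group Γ] [Fintype Γ] (G S : Subgroup Γ) [Fintype G] (hnorm : ∀ s ∈ S, ∀ g ∈ G, s * g * s⁻¹ ∈ G) (hcop : (Nat.card G).Coprime (Nat.card S)) (htop : G ⊔ S = ⊤) (hcyc : IsCyclic S) (C : Subgroup Γ) [Fintype C] (hC : C = G ⊓ Subgroup.centralizer (S : Set Γ)) (hCG : C ≤ G) (hfpf : ∀ x ∈ S, x ≠ 1 → G ⊓ Subgroup.centralizer ({x} : Set Γ) = C) (χ : Cfsg.IrrCharacter G) (hinv : (∀ s ∈ S, ∀ g g' : G, (g' : Γ) = s * g * s⁻¹ → (χ : G →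 ℂ) g' = (χ : G → ℂ) g)) (χh : Cfsg.IrrCharacter Γ) (hext : (∀ g : G, (χh : Γ → ℂ) g = (χ : G → ℂ) g)) (hdet : (Cfsg.detOrder (χh : Γ → ℂ)).Coprime (Nat.card S)) (β : Cfsg.IrrCharacter C) (ε₀ : ℤ) (hε₀ : ε₀ = 1 ∨ ε₀ = -1) (hβ : ∀ c : C, ∀ s : Γ, Subgroup.zpowers s = S → (χh : Γ → ℂ) ((c : Γ) * s) = (ε₀ : ℂ) * (β : C → ℂ) c) : ∃ ε : ℤ, (ε = 1 ∨ ε = -1) ∧ (∃ μ : S → ℂ, Cfsg.IsCharacter S μ ∧ μ 1 = 1 ∧ (∀ x : S, μ x * μ x = 1) ∧ ∀ c : C, ∀ x : S, x ≠ 1 → (χh : Γ → ℂ) ((c : Γ) * x) = (ε : ℂ) * (β : C → ℂ) c * μ x) ∧ (∃ ϑ : C → ℂ, Cfsg.IsCharacter C ϑ ∧ (fun c : C => (χ : G → ℂ) ⟨c, hCG c.2⟩) = fun c => (Nat.card S : ℂ) * ϑ c + (ε : ℂ) * (β : C → ℂ) c) ∧ (Nat.card S : ℤ) ∣ (Cfsg.charDegree (χ : G → ℂ) : ℤ) - ε * (Cfsg.charDegree (β : C → ℂ) : ℤ) := by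
  classical
  have hGn : G.Normal := normal_of_sup_eq_top G S hnorm htop
  haveI := hGn
  obtain ⟨⟨s₀, hs₀S⟩, hs₀gen⟩ := hcyc.exists_generator
  have hS : S = Subgroup.zpowers s₀ := by
    ext x
    constructor
    · intro hx
      obtain ⟨i, hi⟩ := Subgroup.mem_zpowers_iff.mp (hs₀gen ⟨x, hx⟩)
      rw [Subgroup.mem_zpowers_iff]
      refine ⟨i, ?_⟩
      have := congrArg Subtype.val hi
      simpa using this
    · intro hx
      obtain ⟨i, hi⟩ := Subgroup.mem_zpowers_iff.mp hx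
      rw [← hi]
      exact S.zpow_mem hs₀S i
  have hdisj : Disjoint G S := Subgroup.disjoint_of_coprime_natCard hcop
  have hmul : (G : Set Γ) * (S : Set Γ) = Set.univ := by
    rw [← Subgroup.normal_mul, htop]
    rfl
  have hcompl : Subgroup.IsComplement' G S :=
    Subgroup.isComplement'_of_disjoint_and_mul_eq_univ hdisj hmul
  have hidx : G.index = Nat.card S := hcompl.symm.index_eq_card
  let π₀ : Γ →* Γ ⧸ G := QuotientGroup.mk' G
  have hgen₀ : ∀ b : Γ ⧸ G, b ∈ Subgroup.zpowers (π₀ s₀) := by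
    intro b
    obtain ⟨x, rfl⟩ := QuotientGroup.mk'_surjective G b
    have hx : x ∈ G ⊔ S := by rw [htop]; exact Subgroup.mem_top x
    obtain ⟨g, hg, s, hs, rfl⟩ := Subgroup.mem_sup_of_normal_left.mp hx
    rw [hS] at hs
    obtain ⟨i, hi⟩ := Subgroup.mem_zpowers_iff.mp hs
    rw [Subgroup.mem_zpowers_iff]
    refine ⟨i, ?_⟩
    rw [← map_zpow, hi, map_mul]
    have : π₀ g = 1 := (QuotientGroup.eq_one_iff g).mpr hg
    rw [this, one_mul]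
  haveI hcycQ : IsCyclic (Γ ⧸ G) := ⟨⟨π₀ s₀, hgen₀⟩⟩
  letI : CommGroup (Γ ⧸ G) := IsCyclic.commGroup
  have hπ : Function.Surjective π₀ := QuotientGroup.mk'_surjective G
  have hker : ∀ x : Γ, π₀ x = 1 ↔ x ∈ G := fun x => QuotientGroup.eq_one_iff x
  have hcardA : Nat.card (Γ ⧸ G) = Nat.card S := by
    rw [← hidx, Subgroup.index_eq_card]
  have hs₀ : orderOf s₀ = Nat.card (Γ ⧸ G) := by
    rw [hcardA, ← Nat.card_zpowers, ← hS]
  have hcop' : (Nat.card G).Coprime (Nat.card (Γ ⧸ G)) := by rw [hcardA]; exact hcop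
  have hCeq : C = fixC G s₀ := by
    rw [hC]
    unfold fixC
    congr 1
    ext c
    rw [Subgroup.mem_centralizer_iff, Subgroup.mem_centralizer_singleton_iff]
    constructor
    · intro h
      exact (h s₀ hs₀S).symm
    · intro h s hs
      rw [SetLike.mem_coe, hS] at hs
      obtain ⟨i, hi⟩ := Subgroup.mem_zpowers_iff.mp hs
      rw [← hi]
      have hc : Commute c s₀ := h
      exact ((hc.zpow_right i).eq).symm
  exact fpf_core π₀ G hπ hker s₀ hs₀ hcop' hgen₀ S hS C hCeq hCG hfpf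
    χ χh hext hdet β ε₀ hε₀ hβ

end Cfsg.Agent.Helper79.GlaubFpf
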