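import Cfsg.Agent.Lib.Helper79.Glaub.Forward

set_option autoImplicit false
set_option linter.unusedSectionVars false
set_option linter.style.haveILetI false

namespace Cfsg.Agent.Helper79.GlaubFpf

open Cfsg.Agent.Helper79.Glaub
open scoped ComplexConjugate

/-- `0/1`-valued integers adding up to one -/
theorem exists_unique_of_sum_eq_one {ι : Type*} [Fintype ι] [DecidableEq ι] (u : ι → ℤ)
    (hu : ∀ i, u i = 0 ∨ u i = 1) (h : ∑ i, u i = 1) :
    ∃ i₀, u i₀ = 1 ∧ ∀ i, i ≠ i₀ → u i = 0 := by
  have hsq : ∑ i, u i ^ 2 = 1 := by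
    rw [← h]
    apply Finset.sum_congr rfl
    intro i _
    rcases hu i with h0 | h0 <;> rw [h0] <;> norm_num
  obtain ⟨i₀, hi₀, hrest⟩ := sum_sq_eq_one u hsq
  refine ⟨i₀, ?_, hrest⟩
  rcases hi₀ with h1 | h1
  · exact h1
  · rcases hu i₀ with h0 | h0 <;> omega

/-- the combinatorial lemma: integers `t i`, `n` of them, all congruent modulo `n`, with sum
zero and sum of squares `n (n - 1)`, are `δ (n - 1)` once and `-δ` otherwise -/
theorem sign_structure {ι : Type*} [Fintype ι] [DecidableEq ι] (n : ℕ) (hn : Fintype.card ι = n)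
    (hn1 : 1 ≤ n) (t : ι → ℤ) (M : ℤ) (hsum : ∑ i, t i = 0)
    (hsq : ∑ i, t i ^ 2 = (n : ℤ) * ((n : ℤ) - 1)) (hcong : ∀ i, (n : ℤ) ∣ t i + M) :
    ∃ i₀ : ι, ∃ δ : ℤ, (δ = 1 ∨ δ = -1) ∧ t i₀ = δ * ((n : ℤ) - 1) ∧ ∀ i, i ≠ i₀ → t i = -δ := by
  have hnpos : (0 : ℤ) < n := by exact_mod_cast hn1
  -- bound
  have hbound : ∀ i, t i ^ 2 ≤ (n : ℤ) * ((n : ℤ) - 1) := by
    intro i
    rw [← hsq]
    exact Finset.single_le_sum (f := fun i => t i ^ 2) (fun j _ => sq_nonneg (t j))
      (Finset.mem_univ i)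
  have hlt : ∀ i, -(n : ℤ) < t i ∧ t i < n := by
    intro i
    have h1 := hbound i
    constructor <;> nlinarith
  -- common residue
  set r : ℤ := (-M) % (n : ℤ) with hr
  have hr0 : 0 ≤ r := Int.emod_nonneg _ hnpos.ne'
  have hrn : r < n := Int.emod_lt_of_pos _ hnpos
  have hrM : (n : ℤ) ∣ M + r := by
    have h1 : (-M) % (n : ℤ) + (n : ℤ) * ((-M) / (n : ℤ)) = -M := Int.emod_add_mul_ediv _ _
    refine ⟨-((-M) / (n : ℤ)), ?_⟩
    rw [hr]
    linarith
  have hval : ∀ i, t i = r ∨ t i = r - n := by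
    intro i
    obtain ⟨q, hq⟩ := (dvd_sub (hcong i) hrM)
    have hq' : t i - r = n * q := by linarith
    obtain ⟨h1, h2⟩ := hlt i
    have hq0 : q = 0 ∨ q = -1 := by
      have h3 : -2 < q := by
        by_contra hcon
        push Not at hcon
        have : (n : ℤ) * q ≤ (n : ℤ) * (-2) := mul_le_mul_of_nonneg_left hcon hnpos.le
        linarith
      have h4 : q < 1 := by
        by_contra hcon
        push Not at hcon
        have : (n : ℤ) * 1 ≤ (n : ℤ) * q := mul_le_mul_of_nonneg_left hcon hnpos.le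
        linarith
      omega
    rcases hq0 with h0 | h0
    · left; rw [h0] at hq'; linarith
    · right; rw [h0] at hq'; linarith
  -- indicator of the low value
  set u : ι → ℤ := fun i => if t i = r then 0 else 1 with hu
  have hu01 : ∀ i, u i = 0 ∨ u i = 1 := by
    intro i
    simp only [hu]
    split_ifs
    · left; rfl
    · right; rfl
  have htu : ∀ i, t i = r - n * u i := by
    intro i
    simp only [hu]
    split_ifs with h
    · rw [h]; ring
    · rcases hval i with h1 | h1
      · exact absurd h1 h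
      · rw [h1]; ring
  have husq : ∀ i, u i ^ 2 = u i := by
    intro i
    rcases hu01 i with h | h <;> rw [h] <;> norm_num
  set U : ℤ := ∑ i, u i with hU
  have hcardι : (∑ _i : ι, (1 : ℤ)) = n := by
    rw [Finset.sum_const, Finset.card_univ, hn]
    simp
  have h1 : (n : ℤ) * r - n * U = 0 := by
    have : ∑ i, t i = ∑ i, (r * 1 - n * u i) := by
      apply Finset.sum_congr rfl
      intro i _
      rw [htu i]; ring
    rw [Finset.sum_sub_distrib, ← Finset.mul_sum, ← Finset.mul_sum, hcardι, hsum] at this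
    linarith
  have hrU : r = U := by
    have : (n : ℤ) * (r - U) = 0 := by linarith
    rcases mul_eq_zero.mp this with h | h
    · exact absurd h hnpos.ne'
    · linarith
  have h2 : (n : ℤ) * r ^ 2 - 2 * r * n * U + (n : ℤ) ^ 2 * U = (n : ℤ) * ((n : ℤ) - 1) := by
    have : ∑ i, t i ^ 2 = ∑ i, (r ^ 2 * 1 - 2 * r * n * u i + (n : ℤ) ^ 2 * u i) := by
      apply Finset.sum_congr rfl
      intro i _
      rw [htu i]
      have := husq i
      nlinarith
    rw [Finset.sum_add_distrib, Finset.sum_sub_distrib, ← Finset.mul_sum, ← Finset.mul_sum,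
      ← Finset.mul_sum, hcardι, hsq] at this
    linarith
  have h3 : (U - 1) * ((n : ℤ) - 1 - U) = 0 := by
    rw [hrU] at h2
    have : (n : ℤ) * (U * ((n : ℤ) - U)) = (n : ℤ) * ((n : ℤ) - 1) := by linarith
    have h4 := mul_left_cancel₀ hnpos.ne' this
    linarith
  rcases mul_eq_zero.mp h3 with hU1 | hUn
  · -- `U = 1`
    have hU1' : ∑ i, u i = 1 := by rw [← hU]; linarith
    obtain ⟨i₀, hi₀, hrest⟩ := exists_unique_of_sum_eq_one u hu01 hU1'
    have hr1 : r = 1 := by rw [hrU]; linarith
    refine ⟨i₀, -1, Or.inr rfl, ?_, ?_⟩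
    · rw [htu i₀, hi₀, hr1]; ring
    · intro i hi
      rw [htu i, hrest i hi, hr1]; ring
  · -- `U = n - 1`
    set v : ι → ℤ := fun i => 1 - u i with hv
    have hv01 : ∀ i, v i = 0 ∨ v i = 1 := by
      intro i
      simp only [hv]
      rcases hu01 i with h | h
      · right; rw [h]; ring
      · left; rw [h]; ring
    have hvsum : ∑ i, v i = 1 := by
      simp only [hv]
      rw [Finset.sum_sub_distrib, hcardι, ← hU]
      linarith
    obtain ⟨i₀, hi₀, hrest⟩ := exists_unique_of_sum_eq_one v hv01 hvsum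
    have hrn1 : r = n - 1 := by rw [hrU]; linarith
    refine ⟨i₀, 1, Or.inl rfl, ?_, ?_⟩
    · have : u i₀ = 0 := by
        have := hi₀
        simp only [hv] at this
        linarith
      rw [htu i₀, this, hrn1]; ring
    · intro i hi
      have : u i = 1 := by
        have := hrest i hi
        simp only [hv] at this
        linarith
      rw [htu i, this, hrn1]; ring

end Cfsg.Agent.Helper79.GlaubFpf
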