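import Cfsg.Agent.Lib.Helper79.GlaubFpf.CosetSumGen
import Cfsg.Agent.Lib.Helper79.GlaubFpf.Congr
import Cfsg.Agent.Lib.Helper79.Glaub.Forward

set_option autoImplicit false
set_option linter.unusedSectionVars false
set_option linter.style.haveILetI false

namespace Cfsg.Agent.Helper79.GlaubFpf

open Cfsg Cfsg.Agent.Helper81 Cfsg.Agent.Helper79.Glaub
open scoped ComplexConjugate

universe u v

/-- a class function of norm one with integral multiplicities is, up to a sign, any irreducible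
character occurring in it -/
theorem eq_sign_mul_of_norm_one {C : Type u} [Group C] [Fintype C] {ψ : C → ℂ}
    (hψ : IsClassFunction C ψ)
    (hw : ∀ β' : IrrCharacter C, ∃ w : ℤ, classInner ψ (β' : C → ℂ) = w)
    (hnorm : classInner ψ ψ = 1) (β : IrrCharacter C) (hβ : classInner ψ (β : C → ℂ) ≠ 0) :
    ∃ ε : ℤ, (ε = 1 ∨ ε = -1) ∧ ∀ c : C, ψ c = (ε : ℂ) * (β : C → ℂ) c := by
  classical
  choose w hw using hw
  have hexp : ψ = ∑ β' : IrrCharacter C, (w β' : ℂ) • (β' : C → ℂ) := by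
    have := class_function_expansion hψ
    simp only [hw] at this
    exact this
  have hsum : ∑ β' : IrrCharacter C, (w β') ^ 2 = 1 := by
    have h1 : classInner ψ ψ =
        classInner (∑ β' : IrrCharacter C, (w β' : ℂ) • (β' : C → ℂ)) ψ := by
      rw [← hexp]
    rw [classInner_sum_left] at h1
    simp only [classInner_smul_left] at h1
    have h2 : ∀ β' : IrrCharacter C, classInner (β' : C → ℂ) ψ = (w β' : ℂ) := by
      intro β'
      rw [classInner_conj_symm, hw]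
      simp
    simp only [h2] at h1
    rw [hnorm] at h1
    have h3 : ((∑ β' : IrrCharacter C, (w β') ^ 2 : ℤ) : ℂ) = ((1 : ℤ) : ℂ) := by
      push_cast
      rw [h1]
      apply Finset.sum_congr rfl
      intro β' _
      ring
    exact_mod_cast h3
  obtain ⟨β₀, hβ₀, hrest⟩ := sum_sq_eq_one w hsum
  have hββ₀ : β = β₀ := by
    by_contra hne
    apply hβ
    rw [hw, hrest β hne]
    simp
  subst hββ₀
  refine ⟨w β, hβ₀, ?_⟩
  intro c
  have h1 := congrFun hexp c
  rw [Finset.sum_apply, Finset.sum_eq_single β] at h1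
  · simpa using h1
  · intro β' _ hne
    rw [hrest β' hne]
    simp
  · intro h; exact absurd (Finset.mem_univ _) h

section Step

variable {Γ : Type u} [Group Γ] [Fintype Γ] {A : Type v} [CommGroup A] [Finite A] (π : Γ →* A)
  (G : Subgroup Γ) [Fintype G] (hπ : Function.Surjective π) (hker : ∀ x : Γ, π x = 1 ↔ x ∈ G)
  (s₀ : Γ) [Fintype (fixC G s₀)] (hs₀ : orderOf s₀ = Nat.card A)
  (hcop : (Nat.card G).Coprime (Nat.card A))

include hπ hker hs₀ hcop

/-- the canonical extension takes the same values on `c s₀ ^ (k j)` and on `c s₀ ^ k` when `j`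
is prime to the order of `s₀` -/
theorem twist_coset_pow {χh : Γ → ℂ} (hχh : IsIrrCharacter Γ χh)
    (hres : IsIrrCharacter G (fun g : G => χh g))
    (hdet : (detOrder χh).Coprime (Nat.card A)) (k j : ℕ) (hj : j.Coprime (Nat.card A))
    (c : Γ) (hc : c ∈ fixC G s₀) : χh (c * s₀ ^ (k * j)) = χh (c * s₀ ^ k) := by
  have hG := normal_of_hker π G hker
  have hidx := index_eq_card π G hπ hker
  obtain ⟨j', hj'n, hj'G⟩ := Nat.chineseRemainder hcop.symm j 1
  have hj'cop : j'.Coprime (Nat.card A) := by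
    have := hj'n.gcd_eq
    rw [Nat.Coprime, this]
    exact hj
  have hcG : c ∈ G := fixC_le G s₀ hc
  have hcomm : Commute c s₀ := by
    have h1 : c ∈ Subgroup.centralizer {s₀} := (Subgroup.mem_inf.mp hc).2
    exact Subgroup.mem_centralizer_singleton_iff.mp h1
  have h1 : c ^ j' = c := by
    have h2 : c ^ j' = c ^ 1 := by
      rw [pow_eq_pow_iff_modEq]
      exact hj'G.of_dvd (G.orderOf_dvd_natCard hcG)
    rwa [pow_one] at h2
  have h2 : (s₀ ^ k) ^ j' = s₀ ^ (k * j) := by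
    rw [← pow_mul, pow_eq_pow_iff_modEq, hs₀]
    exact Nat.ModEq.mul_left k hj'n
  have h3 : (c * s₀ ^ k) ^ j' = c * s₀ ^ (k * j) := by
    rw [(hcomm.pow_right k).mul_pow, h1, h2]
  rw [← h3]
  exact canonical_twist_invariant G hG (by rw [hidx]; exact hcop) hres hχh (fun _ => rfl)
    (by rw [hidx]; exact hdet) j' hj'G (by rw [hidx]; exact hj'cop) (c * s₀ ^ k)

/-- the multiplicity of an irreducible character of `C` in `c ↦ χ̂ (c s₀ ^ k)` is an integer -/
theorem inner_int_pow {χh : Γ → ℂ} (hχh : IsIrrCharacter Γ χh)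
    (hres : IsIrrCharacter G (fun g : G => χh g))
    (hdet : (detOrder χh).Coprime (Nat.card A)) (k : ℕ) {β : fixC G s₀ → ℂ}
    (hβ : IsIrrCharacter (fixC G s₀) β) :
    ∃ w : ℤ, classInner (fun c : fixC G s₀ => χh (c * s₀ ^ k)) β = w := by
  obtain ⟨m, hm⟩ := exists_nat_coeff π G hker s₀ hs₀ hcop (IsIrrCharacter.isCharacter hχh) hβ
  rw [hm k]
  apply int_of_galois_stable (Nat.card A) Nat.card_pos (fun ψ => linChar π ψ s₀ ^ k) m
  · intro ψ
    show (linChar π ψ s₀ ^ k) ^ Nat.card A = 1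
    rw [← pow_mul, mul_comm, pow_mul, ← linChar_pow, ← hs₀, pow_orderOf_eq_one, linChar_one,
      one_pow]
  · intro j hj
    have h1 : ∀ ψ : AddChar (Additive A) ℂ, (linChar π ψ s₀ ^ k) ^ j = linChar π ψ s₀ ^ (k * j) :=
      fun ψ => (pow_mul _ _ _).symm
    simp only [h1]
    rw [← hm (k * j), ← hm k]
    congr 1
    funext c
    exact twist_coset_pow π G hπ hker s₀ hs₀ hcop hχh hres hdet k j hj c c.2

omit hπ hker hs₀ hcop in
/-- `c ↦ ξ (c s₀ ^ k)` is a class function on `C` -/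
theorem isClassFunction_shift_pow {ξ : Γ → ℂ} (hξ : IsCharacter Γ ξ) (k : ℕ) :
    IsClassFunction (fixC G s₀) (fun c : fixC G s₀ => ξ (c * s₀ ^ k)) := by
  intro g h
  have hcl := isClassFunction_of_isCharacter hξ
  have hcomm : Commute (h : Γ) (s₀ ^ k) := by
    have h1 : (h : Γ) ∈ Subgroup.centralizer {s₀} := (Subgroup.mem_inf.mp h.2).2
    have h2 : Commute (h : Γ) s₀ := Subgroup.mem_centralizer_singleton_iff.mp h1
    exact h2.pow_right k
  show ξ (((h * g * h⁻¹ : fixC G s₀) : Γ) * s₀ ^ k) = ξ ((g : Γ) * s₀ ^ k)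
  rw [← hcl ((g : Γ) * s₀ ^ k) (h : Γ)]
  congr 1
  simp only [Subgroup.coe_mul, Subgroup.coe_inv]
  have : (h : Γ)⁻¹ * s₀ ^ k = s₀ ^ k * (h : Γ)⁻¹ := (hcomm.inv_left).eq
  calc (h : Γ) * g * (h : Γ)⁻¹ * s₀ ^ k = (h : Γ) * g * ((h : Γ)⁻¹ * s₀ ^ k) := by group
    _ = (h : Γ) * g * (s₀ ^ k * (h : Γ)⁻¹) := by rw [this]
    _ = (h : Γ) * (g * s₀ ^ k) * (h : Γ)⁻¹ := by group

omit hπ in
/-- the congruence between the multiplicities on `C s₀ ^ k` and `C s₀ ^ (k + d)` when `s₀ ^ d`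
is a `p`-element -/
theorem congr_step {χh : Γ → ℂ} (hχh : IsCharacter Γ χh) (p j k d : ℕ) (hp : p.Prime)
    (hd : Nat.card A ∣ d * p ^ j) {β : fixC G s₀ → ℂ} (hβ : IsIrrCharacter (fixC G s₀) β)
    (w w' : ℤ) (hw : classInner (fun c : fixC G s₀ => χh (c * s₀ ^ k)) β = w)
    (hw' : classInner (fun c : fixC G s₀ => χh (c * s₀ ^ (k + d))) β = w') :
    w' ≡ w [ZMOD p] := by
  obtain ⟨m, hm⟩ := exists_nat_coeff π G hker s₀ hs₀ hcop hχh hβ
  have hroot : ∀ ψ : AddChar (Additive A) ℂ, linChar π ψ s₀ ^ Nat.card A = 1 := by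
    intro ψ
    rw [← linChar_pow, ← hs₀, pow_orderOf_eq_one, linChar_one]
  apply int_congr_sum_mul_roots p j hp (fun ψ => linChar π ψ s₀ ^ k)
    (fun ψ => linChar π ψ s₀ ^ d) m
  · intro ψ
    apply IsIntegral.pow
    apply IsIntegral.of_pow (Nat.card_pos (α := A))
    rw [hroot ψ]
    exact isIntegral_one
  · intro ψ
    show (linChar π ψ s₀ ^ d) ^ (p ^ j) = 1
    obtain ⟨q, hq⟩ := hd
    rw [← pow_mul, hq, pow_mul, hroot ψ, one_pow]
  · rw [← hw, hm k]
  · rw [← hw', hm (k + d)]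
    apply Finset.sum_congr rfl
    intro ψ _
    rw [pow_add]

end Step

end Cfsg.Agent.Helper79.GlaubFpf
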